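import Cfsg.Agent.OddLocal.AttachedSets
import Cfsg.Agent.OddLocal.CNFrobenius
import Cfsg.Agent.OddLocal.FittingFormula
import Cfsg.Agent.OddLocal.FittingUniqueness
import Cfsg.Agent.OddChars.KernelCoherence
import Cfsg.Agent.OddChars.TICoherence
import Cfsg.Agent.Coherence.DadeGen
import Cfsg.Agent.S1514
import Cfsg.Agent.S1524

/-!
# Coherence for maximal subgroups of Frobenius type I
-/

set_option autoImplicit false
set_option linter.unusedSectionVars false

namespace Cfsg.Agent.OddCharTypeI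

open Subgroup Cfsg
open Cfsg.Agent.Char
open Cfsg.Agent.OddChars (mem_inducedIrrAbove inducedIrrAbove_conj_mem)

universe u

variable {G : Type u} [Group G] {L : Subgroup G}

theorem mem_fittingHallOf {x : L} : (x : G) ∈ fittingHallOf L ↔ x ∈ fittingHall L :=
  ⟨fun ⟨_, hy, e⟩ => Subtype.ext e ▸ hy, fun h => ⟨x, h, rfl⟩⟩

theorem fittingHallOf_subgroupOf : (fittingHallOf L).subgroupOf L = fittingHall L :=
  Subgroup.ext fun _ => mem_fittingHallOf

theorem isMulCommutative_fittingHall (h : IsMulCommutative (fittingHallOf L)) :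
    IsMulCommutative (fittingHall L) :=
  ⟨⟨fun a b => Subtype.ext (Subtype.ext (by
    simpa using congrArg Subtype.val (h.is_comm.comm (⟨((a : L) : G), mem_fittingHallOf.2 a.2⟩ :
      fittingHallOf L) ⟨((b : L) : G), mem_fittingHallOf.2 b.2⟩)))⟩⟩

variable (hfrob : ∀ x ∈ fittingHallOf L, x ≠ 1 → L ⊓ centralizer ({x} : Set G) ≤ fittingHallOf L)
include hfrob

theorem cent_le :
    ∀ n ∈ fittingHall L, n ≠ 1 → centralizer ({n} : Set L) ≤ fittingHall L := by
  intro n hn hn1 c hc
  refine mem_fittingHallOf.1 (hfrob n (mem_fittingHallOf.2 hn) (fun e => hn1 (Subtype.ext e))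
    ⟨c.2, ?_⟩)
  exact mem_centralizer_singleton_iff.2 (congrArg Subtype.val (mem_centralizer_singleton_iff.1 hc))

theorem mem_typeA (hI : IsOfTypeI L) (x : L) :
    (x : G) ∈ typeA L ↔ x ∈ fittingHall L ∧ x ≠ 1 := by
  rw [typeA, if_pos hI, Set.mem_ofPred_eq]
  constructor
  · rintro ⟨-, hx1, y, hy, hy1, hxy⟩
    refine ⟨mem_fittingHallOf.1 (hfrob y hy hy1 ⟨x.2, ?_⟩), fun e => hx1 (congrArg Subtype.val e)⟩
    exact mem_centralizer_singleton_iff.2 hxy
  · rintro ⟨hx, hx1⟩
    exact ⟨x.2, fun e => hx1 (Subtype.ext e), x, mem_fittingHallOf.2 hx, fun e => hx1 (Subtype.ext e),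
      rfl⟩

variable [Fintype G] [Fintype L]

omit [Fintype G] in
theorem apply_eq_zero_off (hI : IsOfTypeI L) {α : L → ℂ}
    (hα : α ∈ zspanOn (inducedIrrAbove (fittingHall L) ⊥) {1}ᶜ) (x : L) (hx : (x : G) ∉ typeA L) :
    α x = 0 := by
  rcases eq_or_ne x 1 with rfl | hx1
  · exact (Coherence.mem_zspanOn_compl_one.1 hα).2
  have hxN : x ∉ fittingHall L := fun h => hx ((mem_typeA hfrob hI x).2 ⟨h, hx1⟩)
  refine Coherence.zspan_induction (P := fun β : L → ℂ => β x = 0) hα.1 (fun χ hχ => ?_) rfl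
    (fun β γ _ _ hb hc => ?_) fun n β _ hb => ?_
  · obtain ⟨θ, -, rfl⟩ := mem_inducedIrrAbove.1 hχ
    exact indFun_apply_of_normal _ θ hxN
  · rw [Pi.add_apply, hb, hc, add_zero]
  · rw [Pi.smul_apply, hb, smul_zero]

omit [Fintype G] hfrob in
theorem isClassFunction_of_mem {α : L → ℂ}
    (hα : α ∈ zspanOn (inducedIrrAbove (fittingHall L) ⊥) {1}ᶜ) :
    IsGeneralizedCharacter L α := by
  refine Coherence.isGeneralized_zspan (fun χ hχ => ?_) hα.1
  obtain ⟨θ, hθ, rfl⟩ := mem_inducedIrrAbove.1 hχ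
  exact isGeneralized_of_isCharacter (isCharacter_indFun _ (IsIrr.isCharacter hθ.1))

variable (hG : IsMinSimpleOddOrder G) (hL : IsCoatom L) (hI : IsOfTypeI L)
include hG hL hI

theorem irrIso :
    OddChars.IrrIso (inducedIrrAbove (fittingHall L) ⊥)
      (dadeIsometry (typeA L) L (supportR L)) := by
  have hC := cent_le hfrob
  obtain ⟨a, b, c⟩ := OddLocal.attached_cases hG hL (A := typeA L) (Or.inr (Or.inl rfl))
  have hD := (OddLocal.dade_of_subset hG hL a b c).2
  have hoff := fun α hα => apply_eq_zero_off hfrob hI (α := α) hα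
  have hgen := fun α hα => isClassFunction_of_mem (L := L) (α := α) hα
  refine ⟨fun χ hχ => OddChars.frob_irr hC hχ, ⟨fun α _ β _ => ?_, fun α _ n => ?_,
    fun α hα β hβ => Coherence.Dade.inner_dade_dade hD α β (IsGen.isClassFunction (hgen α hα))
      (hoff α hα) (IsGen.isClassFunction (hgen β hβ)),
    fun α hα => Coherence.Dade.isGeneralized_dade hD (hgen α hα) (hoff α hα)⟩, fun α hα => ?_⟩
  · funext g
    simp only [dadeIsometry, Pi.add_apply]
    split_ifs <;> simp
  · funext g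
    simp only [dadeIsometry, Pi.smul_apply]
    split_ifs <;> simp
  · refine Coherence.Dade.dade_eq_zero hD ?_
    rintro ⟨a', ha, u, hu, x, hx⟩
    have he : u = a'⁻¹ := eq_inv_of_mul_eq_one_right (by rw [← hx]; group)
    have hu1 : u = 1 := Coherence.Dade.disjoint_L hD ha hu (he ▸ inv_mem (hD.subset ha))
    rw [hu1, eq_comm, inv_eq_one] at he
    exact hD.one_not_mem (he ▸ ha)

omit hfrob hL in
theorem kernel_facts :
    fittingHall L ≠ ⊥ ∧ fittingHall L ≠ ⊤ ∧ Odd (Nat.card L) :=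
  ⟨hI.1.2.2.1, hI.1.2.2.2.1, hI.1.2.1⟩

theorem exists_system : ∃ R, IsCoherenceSystem (inducedIrrAbove (fittingHall L) ⊥)
      (dadeIsometry (typeA L) L (supportR L)) R := by
  have hC := cent_le hfrob
  obtain ⟨h1, h2, hodd⟩ := kernel_facts hG hI
  have hnil := Coherence.FrobKernel.isNilpotent hC h2
  have hI' := irrIso hfrob hG hL hI
  have hlt : (⊥ : Subgroup L) < fittingHall L := bot_lt_iff_ne_bot.2 h1
  obtain ⟨θ, hθ, -⟩ := OddChars.exists_linear_above (K := fittingHall L) (A := ⊥) inferInstance hlt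
  refine S1514.result _ ⟨_, mem_inducedIrrAbove.2 ⟨θ, hθ, rfl⟩⟩ hI'.irr
    (fun χ hχ => ⟨inducedIrrAbove_conj_mem hχ, fun e => ?_⟩) _ hI'.iso hI'.map_one
  have h := real_irr_eq_one hodd (hI'.irr χ hχ) fun g => Complex.conj_eq_iff_im.1 (congrFun e g)
  rw [OddChars.frob_set_eq hC] at hχ
  obtain ⟨-, k, -, hk⟩ := hχ
  exact hk (by rw [h])

omit [Fintype L] hG hL in
theorem index_dvd_sub_one {p : ℕ} (hp : p.Prime) (hexp : Monoid.exponent (L ⧸ fittingHall L) ∣ p - 1) :
    (fittingHall L).index ∣ p - 1 := by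
  have hC := cent_le hfrob
  obtain ⟨-, hodd, h1, h2, U, hU1, hcompl, -, -⟩ := hI.1
  have hnil := Coherence.FrobKernel.isNilpotent hC h2
  set V := (center (fittingHall L)).map (fittingHall L).subtype with hV
  have hVN : V ≤ fittingHall L := map_subtype_le _
  have : Nontrivial (fittingHall L) := (nontrivial_iff_ne_bot _).2 h1
  have hV1 : V ≠ ⊥ := fun h =>
    Group.IsNilpotent.center_ne_bot (fittingHall L)
      ((map_eq_bot_iff_of_injective _ (fittingHall L).subtype_injective).1 h)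
  have hcardU : Nat.card U = (fittingHall L).index := hcompl.symm.index_eq_card.symm
  have hfpf : OddLocal.CN.FPF U V := by
    refine ⟨inferInstance, hV1, ?_, ?_, fun e he he1 => ?_⟩
    · exact le_top.trans (normalizer_eq_top (H := V)).ge
    · rw [hcardU]
      exact ((Coherence.FrobKernel.coprime_index hC).coprime_dvd_left (card_dvd_of_le hVN)).symm
    · refine eq_bot_iff.2 fun v hv => mem_bot.2 ?_
      by_contra hv1
      have heN : e ∈ fittingHall L := hC v (hVN hv.1) hv1 (mem_centralizer_singleton_iff.2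
        (mem_centralizer_singleton_iff.1 hv.2).symm)
      exact he1 (mem_bot.1 (hcompl.disjoint.eq_bot ▸ ⟨heN, he⟩))
  have hoddU : Odd (Nat.card U) := hodd.of_dvd_nat (card_subgroup_dvd_card U)
  rw [← hcardU, ← Nat.factorization_le_iff_dvd Nat.card_pos.ne' (Nat.sub_ne_zero_of_lt hp.one_lt),
    Finsupp.le_iff]
  intro q hq
  have hqp := Nat.prime_of_mem_primeFactors hq
  have := Fact.mk hqp
  obtain ⟨Q⟩ : Nonempty (Sylow q U) := inferInstance
  have hcyc : IsCyclic (Q : Subgroup U) := by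
    refine (hfpf.sylow_cyclic_or_quaternion Q).resolve_right fun h => ?_
    have hd := Nat.dvd_of_mem_primeFactors hq
    rw [h.1] at hd
    exact (Nat.not_even_iff_odd.2 hoddU) (even_iff_two_dvd.2 hd)
  refine (hqp.pow_dvd_iff_le_factorization (Nat.sub_ne_zero_of_lt hp.one_lt)).1 ?_
  obtain ⟨x, hx⟩ := hcyc.exists_ofOrder_eq_natCard
  rw [Q.card_eq_multiplicity] at hx
  rw [← hx]
  refine dvd_trans ?_ ((Monoid.order_dvd_exponent
    (QuotientGroup.mk' (fittingHall L) ((x : U) : L))).trans hexp)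
  rw [← orderOf_coe x, ← orderOf_coe (x : U)]
  refine orderOf_dvd_of_pow_eq_one ?_
  have h := pow_orderOf_eq_one (QuotientGroup.mk' (fittingHall L) ((x : U) : L))
  rw [← map_pow, QuotientGroup.mk'_apply, QuotientGroup.eq_one_iff] at h
  exact mem_bot.1 (hcompl.disjoint.eq_bot ▸ ⟨h, pow_mem (x : U).2 _⟩)

theorem coherent_non_TI (h : IsMulCommutative (fittingHallOf L) ∨
    ∀ p : ℕ, p.Prime → p ∣ Nat.card (fittingHallOf L) →
      Monoid.exponent (L ⧸ fittingHall L) ∣ p - 1) :
    IsCoherent (inducedIrrAbove (fittingHall L) ⊥) {1}ᶜ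
      (dadeIsometry (typeA L) L (supportR L)) := by
  have hC := cent_le hfrob
  obtain ⟨h1, h2, hodd⟩ := kernel_facts hG hI
  have hnil := Coherence.FrobKernel.isNilpotent hC h2
  obtain ⟨R, hS⟩ := exists_system hfrob hG hL hI
  have hlt : ⁅fittingHall L, fittingHall L⁆ < fittingHall L := OddChars.derived_lt hnil h1
  refine OddChars.coherence_of_kernel (H₁ := ⁅fittingHall L, fittingHall L⁆) inferInstance hS hodd ⊥
    bot_le (Group.nilpotent_of_surjective (QuotientGroup.mk' _) (QuotientGroup.mk'_surjective _))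
    (sup_bot_eq _).symm hlt (lt_top_iff_ne_top.2 h2) (OddChars.mem_of_commutator_mem hC hlt.le) ?_
  rcases h with h | h
  · exact Or.inr (Or.inr (Or.inr (Or.inl
      (OddChars.commutator_eq_bot_iff_comm.2 (isMulCommutative_fittingHall h)).le)))
  · by_cases hp : ∃ p m : ℕ, p.Prime ∧ (⊥ : Subgroup L).relIndex (fittingHall L) = p ^ m
    · obtain ⟨p, m, hpp, hpm⟩ := hp
      refine Or.inr (Or.inr (Or.inr (Or.inr ⟨p, m, hpp, hpm,
        index_dvd_sub_one hfrob hI hpp (h p hpp ?_)⟩)))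
      rw [relIndex_bot_left] at hpm
      rw [fittingHallOf, card_subtype, hpm]
      refine dvd_pow_self p fun hm => ?_
      rw [hm, pow_zero, card_eq_one] at hpm
      exact h1 hpm
    · exact Or.inr (Or.inr (Or.inl hp))

theorem coherent_TI (hTI : IsTISubset (fittingHallOf L : Set G)) :
    IsCoherent (inducedIrrAbove (fittingHall L) ⊥) {1}ᶜ
      (dadeIsometry (typeA L) L (supportR L)) := by
  classical
  obtain ⟨h1, h2, hodd⟩ := kernel_facts hG hI
  set H := fittingHallOf L with hH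
  have hHL : H ≤ L := map_subtype_le _
  have hH1 : H ≠ ⊥ := fun h => h1 ((map_eq_bot_iff_of_injective _ L.subtype_injective).1 h)
  have hN : normalizer (H : Set G) = L := OddLocal.normalizer_eq_of_coatom hG hL hH1
    (fun h => hL.1 (top_le_iff.1 (h ▸ hHL))) (OddLocal.le_normalizer_fittingHallOf L)
  obtain ⟨-, -, -, -, U, hU1, hcompl, -, -⟩ := hI.1
  have hfpf : ∀ w ∈ U.map L.subtype, w ≠ 1 → ∀ h ∈ H, w * h = h * w → h = 1 := by
    rintro _ ⟨w, hw, rfl⟩ hw1 h hh hwh
    by_contra hh1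
    have := mem_fittingHallOf.1 (hfrob h hh hh1 ⟨w.2, mem_centralizer_singleton_iff.2 hwh⟩)
    exact hw1 (by rw [show w = 1 from mem_bot.1 (hcompl.disjoint.eq_bot ▸ ⟨this, hw⟩)]; rfl)
  have hcoh := S1524.result H L (U.map L.subtype) hodd hHL (map_subtype_le _) hH1
    (fun h => hU1 ((map_eq_bot_iff_of_injective _ L.subtype_injective).1 h))
    (OddLocal.fittingHallOf_nilpotent L)
    (fun x hx h hh => (mem_normalizer_iff.1 (hN.ge hx) h).1 hh)
    (by rw [hH, fittingHallOf, ← map_inf _ _ _ L.subtype_injective, hcompl.disjoint.eq_bot, Subgroup.map_bot])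
    (by rw [hH, fittingHallOf, ← Subgroup.map_sup, hcompl.sup_eq_top, ← MonoidHom.range_eq_map, range_subtype])
    hfpf hTI hN
  rw [fittingHallOf_subgroupOf] at hcoh
  obtain ⟨a, b, c⟩ := OddLocal.attached_cases hG hL (A := typeA L) (Or.inr (Or.inl rfl))
  have hD := (OddLocal.dade_of_subset hG hL a b c).2
  have hR : ∀ a ∈ typeA L, supportR L a = ⊥ := by
    intro a ha
    have haH := (mem_typeA hfrob hI ⟨a, hD.subset ha⟩).1 ha
    refine dif_neg fun h => h.1 fun y hy => ?_
    rw [← hN]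
    by_contra hy'
    refine haH.2 (Subtype.ext (hTI y hy' a (mem_fittingHallOf.2 haH.1) ?_))
    rw [mem_centralizer_singleton_iff] at hy
    rw [hy, mul_inv_cancel_right]
    exact mem_fittingHallOf.2 haH.1
  have key : ∀ α ∈ zspanOn (inducedIrrAbove (fittingHall L) ⊥) {1}ᶜ,
      indFun L α = dadeIsometry (typeA L) L (supportR L) α := by
    intro α hα
    have hoff := apply_eq_zero_off hfrob hI hα
    have hcf := IsGen.isClassFunction (isClassFunction_of_mem hα)
    rw [eq_comm, ← sub_eq_zero]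
    set δ := dadeIsometry (typeA L) L (supportR L) α - indFun L α with hδ
    have hδc : IsClassFunction G δ := fun g k => by
      simp only [hδ, Pi.sub_apply, Coherence.Dade.isClassFunction_dade hD hcf g k,
        isClassFunction_indFun L α g k]
    refine (classInner_self_eq_zero _).1 ?_
    conv_lhs => arg 1; rw [hδ]
    rw [classInner_sub_left, sub_eq_zero, classInner_indFun_left L α hδc]
    refine Coherence.Dade.inner_dade hD α hcf hoff δ _ hδc fun a ha => ?_
    rw [hR _ ha]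
    simp
  obtain ⟨hne, τ₁, hτ₁, hag⟩ := hcoh
  exact ⟨hne, τ₁, hτ₁, fun α hα => (hag α hα).trans (key α hα)⟩

theorem main :
    (∀ χ ∈ inducedIrrAbove (fittingHall L) ⊥, IsIrrCharacter L χ) ∧
      IsCoherent (inducedIrrAbove (fittingHall L) ⊥) {1}ᶜ
        (dadeIsometry (typeA L) L (supportR L)) := by
  refine ⟨(irrIso hfrob hG hL hI).irr, ?_⟩
  rcases hI.2 with h | h | h
  · exact coherent_TI hfrob hG hL hI h
  · exact coherent_non_TI hfrob hG hL hI (Or.inl h.1)
  · exact coherent_non_TI hfrob hG hL hI (Or.inr h.1)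

end Cfsg.Agent.OddCharTypeI
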